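import Mathlib

/-!
Generation of the alternating group from the even permutations supported on a subset together
with three-cycles reaching every outside point.
-/

set_option autoImplicit false

namespace CfsgLib.LeadSylowTwo

open Equiv Equiv.Perm

variable {α : Type*} [DecidableEq α]

/-- the cycle `a ↦ b ↦ c ↦ a` -/
def cyc (a b c : α) : Perm α := swap a b * swap b c

theorem cyc_apply {a b c : α} (hab : a ≠ b) (hac : a ≠ c) (hbc : b ≠ c) :
    cyc a b c a = b ∧ cyc a b c b = c ∧ cyc a b c c = a ∧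
      ∀ x, x ≠ a → x ≠ b → x ≠ c → cyc a b c x = x := by
  refine ⟨?_, ?_, ?_, fun x h1 h2 h3 => ?_⟩
  · simp [cyc, swap_apply_of_ne_of_ne hab hac]
  · simp [cyc, swap_apply_of_ne_of_ne hac.symm hbc.symm]
  · simp [cyc]
  · simp [cyc, swap_apply_of_ne_of_ne, h1, h2, h3]

theorem cyc_conj (σ : Perm α) (a b c : α) : σ * cyc a b c * σ⁻¹ = cyc (σ a) (σ b) (σ c) := by
  simp only [cyc, swap_apply_apply]
  group

theorem cyc_inv {a b c : α} (hab : a ≠ b) (hac : a ≠ c) (hbc : b ≠ c) :
    (cyc b a c)⁻¹ = cyc a b c := by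
  refine inv_eq_of_mul_eq_one_right (Equiv.ext fun x => ?_)
  obtain ⟨p1, p2, p3, p4⟩ := cyc_apply hab hac hbc
  obtain ⟨q1, q2, q3, q4⟩ := cyc_apply hab.symm hbc hac
  rw [Perm.mul_apply, Perm.one_apply]
  by_cases h1 : x = a
  · subst h1; rw [p1, q1]
  by_cases h2 : x = b
  · subst h2; rw [p2, q3]
  by_cases h3 : x = c
  · subst h3; rw [p3, q2]
  · rw [p4 x h1 h2 h3, q4 x h2 h1 h3]

theorem cyc_rotate {a b c : α} (hab : a ≠ b) (hac : a ≠ c) (hbc : b ≠ c) :
    cyc a b c = cyc b c a := by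
  refine Equiv.ext fun x => ?_
  obtain ⟨p1, p2, p3, p4⟩ := cyc_apply hab hac hbc
  obtain ⟨q1, q2, q3, q4⟩ := cyc_apply hbc hab.symm hac.symm
  by_cases h1 : x = a
  · subst h1; rw [p1, q3]
  by_cases h2 : x = b
  · subst h2; rw [p2, q1]
  by_cases h3 : x = c
  · subst h3; rw [p3, q2]
  · rw [p4 x h1 h2 h3, q4 x h2 h3 h1]

variable [Fintype α]

theorem sign_cyc {a b c : α} (hab : a ≠ b) (hbc : b ≠ c) : sign (cyc a b c) = 1 := by
  simp [cyc, sign_swap hab, sign_swap hbc]

theorem isThreeCycle_cyc {a b c : α} (hab : a ≠ b) (hac : a ≠ c) (hbc : b ≠ c) :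
    IsThreeCycle (cyc a b c) := by
  rw [cyc, swap_comm a b]
  exact isThreeCycle_swap_mul_swap_same hab.symm hbc hac

theorem exists_cyc {g : Perm α} (hg : IsThreeCycle g) :
    ∃ a b c : α, a ≠ b ∧ a ≠ c ∧ b ≠ c ∧ g = cyc a b c := by
  obtain ⟨a, ha⟩ := hg.isCycle.nonempty_support
  have h3 : (g ^ 3) a = a := by
    rw [show 3 = orderOf g from hg.orderOf.symm, pow_orderOf_eq_one, Perm.one_apply]
  have hb : g a ≠ a := Perm.mem_support.mp ha
  have hc : g (g a) ≠ g a := fun h => hb (g.injective h)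
  have h3' : g (g (g a)) = a := by simpa [pow_succ] using h3
  have hca : g (g a) ≠ a := fun h => hb (by rw [h] at h3'; exact h3')
  refine ⟨a, g a, g (g a), hb.symm, hca.symm, hc.symm, Equiv.ext fun x => ?_⟩
  obtain ⟨p1, p2, p3, p4⟩ := cyc_apply hb.symm hca.symm hc.symm
  by_cases h1 : x = a
  · subst h1; rw [p1]
  by_cases h2 : x = g a
  · subst h2; rw [p2]
  by_cases h4 : x = g (g a)
  · subst h4; rw [p3, h3']
  rw [p4 x h1 h2 h4, ← Perm.notMem_support]
  intro hx
  have hs : g.support = {a, g a, g (g a)} := by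
    refine (Finset.eq_of_subset_of_card_le (fun y hy => ?_) ?_).symm
    · rcases Finset.mem_insert.mp hy with rfl | hy
      · exact ha
      rcases Finset.mem_insert.mp hy with rfl | hy
      · exact Perm.apply_mem_support.mpr ha
      rw [Finset.mem_singleton.mp hy]
      exact Perm.apply_mem_support.mpr (Perm.apply_mem_support.mpr ha)
    · rw [hg.card_support, Finset.card_insert_of_notMem (by simp [hb.symm, hca.symm]),
        Finset.card_insert_of_notMem (by simpa using hc.symm), Finset.card_singleton]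
  rw [hs] at hx
  simp [h1, h2, h4] at hx

theorem alternating_le (J : Subgroup (Perm α)) (U : Set α)
    (hU : ∀ σ : Perm α, sign σ = 1 → (∀ x, x ∉ U → σ x = x) → σ ∈ J)
    (h3 : ∃ a b c, a ∈ U ∧ b ∈ U ∧ c ∈ U ∧ a ≠ b ∧ a ≠ c ∧ b ≠ c)
    (hout : ∀ r, r ∉ U → ∃ p q, p ∈ U ∧ q ∈ U ∧ p ≠ q ∧ cyc p q r ∈ J) :
    alternatingGroup α ≤ J := by
  have ne : ∀ {a r : α}, a ∈ U → r ∉ U → a ≠ r := fun ha hr h => hr (h ▸ ha)
  have one : ∀ r, r ∉ U → ∀ a ∈ U, ∀ b ∈ U, a ≠ b → cyc a b r ∈ J := by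
    intro r hr a ha b hb hab
    obtain ⟨p, q, hp, hq, hpq, hJ⟩ := hout r hr
    set q' := swap p a q with hq'
    have hq'U : q' ∈ U := by
      rw [hq', swap_apply_def]; split_ifs <;> assumption
    have hq'a : q' ≠ a := fun h => hpq.symm ((swap p a).injective (by rw [← hq', h, swap_apply_left]))
    set σ := swap q' b * swap p a with hσ
    have σp : σ p = a := by
      rw [hσ, Perm.mul_apply, swap_apply_left, swap_apply_of_ne_of_ne hq'a.symm hab]
    have σq : σ q = b := by rw [hσ, Perm.mul_apply, ← hq', swap_apply_left]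
    have σfix : ∀ x, x ∉ U → σ x = x := fun x hx => by
      rw [hσ, Perm.mul_apply, swap_apply_of_ne_of_ne (ne hp hx).symm (ne ha hx).symm,
        swap_apply_of_ne_of_ne (ne hq'U hx).symm (ne hb hx).symm]
    rcases Int.units_eq_one_or (sign σ) with h | h
    · have := mul_mem (mul_mem (hU σ h σfix) hJ) (inv_mem (hU σ h σfix))
      rwa [cyc_conj, σp, σq, σfix r hr] at this
    · have h' : sign (swap a b * σ) = 1 := by simp [sign_swap hab, h]
      have fix' : ∀ x, x ∉ U → (swap a b * σ) x = x := fun x hx => by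
        rw [Perm.mul_apply, σfix x hx, swap_apply_of_ne_of_ne (ne ha hx).symm (ne hb hx).symm]
      have := mul_mem (mul_mem (hU _ h' fix') hJ) (inv_mem (hU _ h' fix'))
      have e1 : (swap a b * σ) p = b := by
        rw [Perm.mul_apply (swap a b) σ, σp, swap_apply_left]
      have e2 : (swap a b * σ) q = a := by
        rw [Perm.mul_apply (swap a b) σ, σq, swap_apply_right]
      rw [cyc_conj, e1, e2, fix' r hr] at this
      rw [← cyc_inv hab (ne ha hr) (ne hb hr)]
      exact inv_mem this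
  obtain ⟨u, v, w, hu, hv, hw, huv, huw, hvw⟩ := h3
  have other : ∀ a : α, ∃ b ∈ U, b ≠ a := fun a =>
    if h : u = a then ⟨v, hv, h ▸ huv.symm⟩ else ⟨u, hu, h⟩
  have two : ∀ a ∈ U, ∀ r s, r ∉ U → s ∉ U → r ≠ s → cyc a r s ∈ J := by
    intro b hb r s hr hs hrs
    obtain ⟨a, ha, hab⟩ := other b
    obtain ⟨p1, p2, -, p4⟩ := cyc_apply hab (ne ha hr) (ne hb hr)
    have hσ := one r hr a ha b hb hab
    have := mul_mem (mul_mem hσ (one s hs a ha b hb hab)) (inv_mem hσ)
    rwa [cyc_conj, p1, p2, p4 s (ne ha hs).symm (ne hb hs).symm hrs.symm] at this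
  have three : ∀ t r s, t ∉ U → r ∉ U → s ∉ U → t ≠ r → t ≠ s → r ≠ s → cyc t r s ∈ J := by
    intro t r s ht hr hs htr hts hrs
    obtain ⟨-, p2, -, p4⟩ := cyc_apply huv (ne hu ht) (ne hv ht)
    have hσ := one t ht u hu v hv huv
    have := mul_mem (mul_mem hσ (two v hv r s hr hs hrs)) (inv_mem hσ)
    rwa [cyc_conj, p2, p4 r (ne hu hr).symm (ne hv hr).symm htr.symm,
      p4 s (ne hu hs).symm (ne hv hs).symm hts.symm] at this
  rw [← closure_three_cycles_eq_alternating, Subgroup.closure_le]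
  intro g hg
  obtain ⟨a, b, c, hab, hac, hbc, rfl⟩ := exists_cyc hg
  show cyc a b c ∈ J
  by_cases ha : a ∈ U <;> by_cases hb : b ∈ U <;> by_cases hc : c ∈ U
  · refine hU _ (sign_cyc hab hbc) fun x hx => (cyc_apply hab hac hbc).2.2.2 x ?_ ?_ ?_
    · exact (ne ha hx).symm
    · exact (ne hb hx).symm
    · exact (ne hc hx).symm
  · exact one c hc a ha b hb hab
  · rw [cyc_rotate hab hac hbc, cyc_rotate hbc hab.symm hac.symm]
    exact one b hb c hc a ha hac.symm
  · exact two a ha b c hb hc hbc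
  · rw [cyc_rotate hab hac hbc]
    exact one a ha b hb c hc hbc
  · rw [cyc_rotate hab hac hbc]
    exact two b hb c a hc ha hac.symm
  · rw [cyc_rotate hab hac hbc, cyc_rotate hbc hab.symm hac.symm]
    exact two c hc a b ha hb hab
  · exact three a b c ha hb hc hab hac hbc

end CfsgLib.LeadSylowTwo
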