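import Mathlib

/-!
Orbits of a Sylow 2-subgroup of a finite symmetric group.
-/

set_option autoImplicit false

namespace CfsgLib.LeadSylowTwo

open Equiv Equiv.Perm MulAction
open scoped Pointwise

set_option linter.unusedSectionVars false
set_option linter.style.haveILetI false

variable {α : Type*} [Fintype α] [DecidableEq α]

/-- no Sylow 2-subgroup preserves a colouring whose stabiliser has index divisible by two -/
theorem no_colouring (P : Sylow 2 (Perm α)) {ι : Type*} [Fintype ι] (f : α → ι)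
    (hf : ∀ g ∈ (P : Subgroup (Perm α)), ∀ x, f (g x) = f x)
    (hdvd : 2 * (∏ i, (Set.ncard {a | f a = i}).factorial) ∣ (Fintype.card α).factorial) :
    False := by
  let K : Subgroup (Perm α) :=
    { carrier := {g | f ∘ g = f}
      mul_mem' := fun {g h} (hg : f ∘ g = f) (hh : f ∘ h = f) => by
        show f ∘ (g * h) = f
        funext x
        have := congrFun hg (h x); have := congrFun hh x
        simp_all
      one_mem' := rfl
      inv_mem' := fun {g} (hg : f ∘ g = f) => by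
        show f ∘ ⇑g⁻¹ = f
        funext x
        simpa using (congrFun hg (g⁻¹ x)).symm }
  have hPK : (P : Subgroup (Perm α)) ≤ K := fun g hg => funext (hf g hg)
  have hK : Nat.card K = ∏ i, (Set.ncard {a | f a = i}).factorial := by
    rw [← DomMulAct.stabilizer_ncard f, ← Nat.card_coe_set_eq]; rfl
  have h1 : Nat.card (P : Subgroup (Perm α)) ∣ Nat.card K := Subgroup.card_dvd_of_le hPK
  have h2 : 2 * Nat.card (P : Subgroup (Perm α)) ∣ Nat.card (Perm α) := by
    rw [Nat.card_perm, Nat.card_eq_fintype_card (α := α)]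
    exact dvd_trans (Nat.mul_dvd_mul_left 2 h1) (hK ▸ hdvd)
  haveI : Fact (Nat.Prime 2) := ⟨Nat.prime_two⟩
  rw [← (P : Subgroup (Perm α)).card_mul_index, mul_comm 2] at h2
  exact P.not_dvd_index (Nat.dvd_of_mul_dvd_mul_left Nat.card_pos h2)

theorem not_invariant_pair (P : Sylow 2 (Perm α)) (S T : Set α)
    (hS : ∀ g ∈ (P : Subgroup (Perm α)), ∀ x, g x ∈ S ↔ x ∈ S)
    (hT : ∀ g ∈ (P : Subgroup (Perm α)), ∀ x, g x ∈ T ↔ x ∈ T)
    (hd : Disjoint S T) (hne : S.Nonempty) (hcard : S.ncard = T.ncard) : False := by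
  classical
  set m := S.ncard with hm
  have hm0 : 0 < m := (Set.ncard_pos).mpr hne
  let f : α → Fin 3 := fun x => if x ∈ S then 0 else if x ∈ T then 1 else 2
  have f0 : {a | f a = 0} = S := by
    ext a; simp only [f, Set.mem_ofPred_eq]; split_ifs <;> simp_all
  have f1 : {a | f a = 1} = T := by
    ext a; simp only [f, Set.mem_ofPred_eq]
    split_ifs with h1 h2
    · simp [Set.disjoint_left.mp hd h1]
    · simp [h2]
    · simp [h2]
  have f2 : {a | f a = 2} = (S ∪ T)ᶜ := by
    ext a; simp only [f, Set.mem_ofPred_eq, Set.mem_compl_iff, Set.mem_union]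
    split_ifs <;> simp_all
  refine no_colouring P f (fun g hg x => by simp only [f, hS g hg x, hT g hg x]) ?_
  rw [Fin.prod_univ_three, f0, f1, f2, ← hm, ← hcard]
  have hu : (S ∪ T).ncard = 2 * m := by rw [Set.ncard_union_eq hd, ← hcard, ← hm]; ring
  have hn := Set.ncard_add_ncard_compl (S ∪ T)
  rw [hu, Nat.card_eq_fintype_card] at hn
  rw [← Nat.choose_mul_factorial_mul_factorial (show 2 * m ≤ Fintype.card α by omega),
    show Fintype.card α - 2 * m = ((S ∪ T)ᶜ).ncard by omega,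
    ← Nat.choose_mul_factorial_mul_factorial (show m ≤ 2 * m by omega),
    show 2 * m - m = m by omega, ← Nat.centralBinom_eq_two_mul_choose]
  obtain ⟨c, hc⟩ := Nat.two_dvd_centralBinom_of_one_le hm0
  exact ⟨(Fintype.card α).choose (2 * m) * c, by rw [hc]; ring⟩

theorem orbit_power (P : Sylow 2 (Perm α)) (x : α) :
    ∃ a, (orbit (P : Subgroup (Perm α)) x).ncard = 2 ^ a := by
  haveI : Fact (Nat.Prime 2) := ⟨Nat.prime_two⟩
  obtain ⟨a, ha⟩ := P.isPGroup'.card_orbit x
  exact ⟨a, by rw [← Nat.card_coe_set_eq]; exact ha⟩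

theorem mem_orbit_invariant (P : Subgroup (Perm α)) (x : α) :
    ∀ g ∈ P, ∀ y, g y ∈ orbit P x ↔ y ∈ orbit P x := fun g hg y => by
  have := orbit_eq_iff.mpr (mem_orbit y (⟨g, hg⟩ : P))
  rw [← orbit_eq_iff, ← orbit_eq_iff]
  exact ⟨fun h => this.symm.trans h, fun h => this.trans h⟩

theorem orbit_card_inj (P : Sylow 2 (Perm α)) (x y : α)
    (h : (orbit (P : Subgroup (Perm α)) x).ncard = (orbit (P : Subgroup (Perm α)) y).ncard) :
    orbit (P : Subgroup (Perm α)) x = orbit (P : Subgroup (Perm α)) y := by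
  by_contra hne
  refine not_invariant_pair P _ _ (mem_orbit_invariant _ x) (mem_orbit_invariant _ y) ?_
    ⟨x, mem_orbit_self x⟩ h
  refine Set.disjoint_left.mpr fun z hz hz' => hne ?_
  rw [← orbit_eq_iff.mpr hz, orbit_eq_iff.mpr hz']

theorem exists_swap_mem (P : Sylow 2 (Perm α)) (h2 : 2 ≤ Fintype.card α) :
    ∃ c d : α, c ≠ d ∧ swap c d ∈ (P : Subgroup (Perm α)) := by
  haveI : Fact (Nat.Prime 2) := ⟨Nat.prime_two⟩
  obtain ⟨a, b, hab⟩ := Fintype.exists_pair_of_one_lt_card h2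
  have hp : IsPGroup 2 (Subgroup.zpowers (swap a b)) :=
    IsPGroup.of_card (n := 1) (by rw [Nat.card_zpowers, (show IsSwap (swap a b) from ⟨a, b, hab, rfl⟩).orderOf, pow_one])
  obtain ⟨Q, hQ⟩ := hp.exists_le_sylow
  obtain ⟨g, hg⟩ := MulAction.exists_smul_eq (Perm α) Q P
  refine ⟨g a, g b, g.injective.ne hab, ?_⟩
  rw [← hg, Sylow.smul_def]
  show swap (g a) (g b) ∈ MulAut.conj g • (Q : Subgroup (Perm α))
  rw [swap_apply_apply, show g * swap a b * g⁻¹ = MulAut.conj g • swap a b from rfl]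
  exact Subgroup.smul_mem_pointwise_smul _ _ _ (hQ (Subgroup.mem_zpowers _))

theorem exists_fixed (P : Sylow 2 (Perm α)) (hodd : Odd (Fintype.card α)) :
    ∃ x : α, ∀ g ∈ (P : Subgroup (Perm α)), g x = x := by
  haveI : Fact (Nat.Prime 2) := ⟨Nat.prime_two⟩
  have : ¬ 2 ∣ Nat.card α := by
    rw [Nat.card_eq_fintype_card]; exact Nat.two_dvd_ne_zero.mpr (Nat.odd_iff.mp hodd)
  obtain ⟨x, hx⟩ := P.isPGroup'.nonempty_fixed_point_of_prime_not_dvd_card α this
  exact ⟨x, fun g hg => hx ⟨g, hg⟩⟩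

theorem transitive_rest (P : Sylow 2 (Perm α)) {k : ℕ} (hn : Fintype.card α = 2 ^ k + 1)
    {x : α} (hx : ∀ g ∈ (P : Subgroup (Perm α)), g x = x) {y z : α} (hy : y ≠ x) (hz : z ≠ x) :
    ∃ g ∈ (P : Subgroup (Perm α)), g y = z := by
  classical
  set O := orbit (P : Subgroup (Perm α)) y with hO
  by_contra hcon
  have hxO : x ∉ O := by
    rintro ⟨⟨g, hg⟩, hgy⟩
    exact hy (g.injective (hgy.trans (hx g hg).symm))
  have hzO : z ∉ O := by
    rintro ⟨⟨g, hg⟩, hgy⟩
    exact hcon ⟨g, hg, hgy⟩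
  obtain ⟨a, ha⟩ := orbit_power P y
  rw [← hO] at ha
  let f : α → Fin 3 := fun u => if u = x then 0 else if u ∈ O then 1 else 2
  have f0 : {u | f u = 0} = {x} := by
    ext u; simp only [f, Set.mem_ofPred_eq, Set.mem_singleton_iff]; split_ifs <;> simp_all
  have f1 : {u | f u = 1} = O := by
    ext u; simp only [f, Set.mem_ofPred_eq]
    split_ifs with h1 h2
    · simp [h1, hxO]
    · simp [h2]
    · simp [h2]
  have f2 : {u | f u = 2} = (insert x O)ᶜ := by
    ext u; simp only [f, Set.mem_ofPred_eq, Set.mem_compl_iff, Set.mem_insert_iff]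
    split_ifs <;> simp_all
  have hi : ∀ g ∈ (P : Subgroup (Perm α)), ∀ u, g u = x ↔ u = x := fun g hg u =>
    ⟨fun h => g.injective (h.trans (hx g hg).symm), fun h => by rw [h, hx g hg]⟩
  have hOi : ∀ g ∈ (P : Subgroup (Perm α)), ∀ u, g u ∈ O ↔ u ∈ O := mem_orbit_invariant _ y
  refine no_colouring P f (fun g hg u => by simp only [f, hi g hg u, hOi g hg u]) ?_
  rw [Fin.prod_univ_three, f0, f1, f2, Set.ncard_singleton, ha, Nat.factorial_one, one_mul]
  have hu : (insert x O).ncard = 2 ^ a + 1 := by rw [Set.ncard_insert_of_notMem hxO, ha]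
  have hlt : (insert x O).ncard < Fintype.card α := by
    rw [← Nat.card_eq_fintype_card, ← Set.ncard_univ]
    refine Set.ncard_lt_ncard (Set.ssubset_univ_iff.mpr fun h => ?_)
    rcases Set.mem_insert_iff.mp (h ▸ Set.mem_univ z : z ∈ insert x O) with h' | h'
    · exact hz h'
    · exact hzO h'
  have hn' := Set.ncard_add_ncard_compl (insert x O)
  rw [hu, Nat.card_eq_fintype_card] at hn'
  have hlt' : 2 ^ a < 2 ^ k := by omega
  rw [show ((insert x O)ᶜ).ncard = 2 ^ k - 2 ^ a by omega, hn, Nat.factorial_succ]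
  rw [← Nat.choose_mul_factorial_mul_factorial hlt'.le]
  obtain ⟨c, hc⟩ := Nat.prime_two.dvd_choose_pow (n := k) (k := 2 ^ a) (by positivity) (by omega)
  exact ⟨(2 ^ k + 1) * c, by rw [hc]; ring⟩

end CfsgLib.LeadSylowTwo
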