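import Cfsg.Agent.Lib.LeadSylowTwo.Gen
import Cfsg.Agent.Lib.LeadSylowTwo.Orbits
import Cfsg.Agent.Lib.PGroups.Basic

/-!
Unless the degree is one more than a power of two, a Sylow 2-subgroup of a symmetric group lies in
two proper subgroups which together generate the alternating group.
-/

set_option autoImplicit false
set_option linter.unusedSectionVars false
set_option linter.style.haveILetI false

namespace CfsgLib.LeadSylowTwo

open Equiv Equiv.Perm MulAction
open scoped Pointwise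

variable {α : Type*} [Fintype α] [DecidableEq α]

/-- two overgroups of `P`, neither containing the alternating group, whose even parts generate it -/
def HasPair (P : Subgroup (Perm α)) : Prop :=
  ∃ A B : Subgroup (Perm α), P ≤ A ∧ P ≤ B ∧ ¬ alternatingGroup α ≤ A ∧
    ¬ alternatingGroup α ≤ B ∧
    alternatingGroup α ≤ (A ⊓ alternatingGroup α) ⊔ (B ⊓ alternatingGroup α)

theorem smul_set_eq_of_iff {g : Perm α} {S : Set α} (h : ∀ x, g x ∈ S ↔ x ∈ S) : g • S = S := by
  ext x
  rw [Set.mem_smul_set_iff_inv_smul_mem, ← h, Perm.smul_def, ← Perm.mul_apply, mul_inv_cancel,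
    Perm.one_apply]

theorem iff_of_smul_set_eq {g : Perm α} {S : Set α} (h : g • S = S) (x : α) :
    g x ∈ S ↔ x ∈ S := by
  conv_lhs => rw [← h]
  rw [← Perm.smul_def, Set.smul_mem_smul_set_iff]

theorem mem_stab_set {g : Perm α} {S : Set α} :
    g ∈ stabilizer (Perm α) S ↔ ∀ x, g x ∈ S ↔ x ∈ S :=
  ⟨fun h => iff_of_smul_set_eq h, fun h => smul_set_eq_of_iff h⟩

theorem not_alt_le_stab {S : Set α} {p q r : α} (hr : r ∈ S) (hp : p ∉ S) (hpq : p ≠ q)
    (hpr : p ≠ r) (hqr : q ≠ r) : ¬ alternatingGroup α ≤ stabilizer (Perm α) S := by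
  intro h
  have := mem_stab_set.mp (h (Perm.mem_alternatingGroup.mpr (sign_cyc hpq hqr))) r
  rw [(cyc_apply hpq hpr hqr).2.2.1] at this
  exact hp (this.mpr hr)

theorem hasPair_three (P : Subgroup (Perm α)) (O₁ O₂ O₃ : Set α)
    (h1 : ∀ g ∈ P, ∀ x, g x ∈ O₁ ↔ x ∈ O₁) (h2 : ∀ g ∈ P, ∀ x, g x ∈ O₂ ↔ x ∈ O₂)
    (d12 : Disjoint O₁ O₂) (d13 : Disjoint O₁ O₃) (d23 : Disjoint O₂ O₃)
    (n1 : O₁.Nonempty) (n2 : O₂.Nonempty) (n3 : O₃.Nontrivial) : HasPair P := by
  obtain ⟨r₁, hr₁⟩ := n1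
  obtain ⟨r₂, hr₂⟩ := n2
  obtain ⟨p, hp, q, hq, hpq⟩ := n3
  have e12 := Set.disjoint_left.mp d12
  have e13 := Set.disjoint_left.mp d13
  have e23 := Set.disjoint_left.mp d23
  refine ⟨stabilizer (Perm α) O₁, stabilizer (Perm α) O₂, fun g hg => mem_stab_set.mpr (h1 g hg),
    fun g hg => mem_stab_set.mpr (h2 g hg),
    not_alt_le_stab hr₁ (fun h => e13 h hp) hpq (fun h => e13 hr₁ (h ▸ hp))
      (fun h => e13 hr₁ (h ▸ hq)),
    not_alt_le_stab hr₂ (fun h => e23 h hp) hpq (fun h => e23 hr₂ (h ▸ hp))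
      (fun h => e23 hr₂ (h ▸ hq)), ?_⟩
  refine alternating_le _ O₁ᶜ (fun σ hσ hfix => Subgroup.mem_sup_left
    ⟨mem_stab_set.mpr fun x => ?_, Perm.mem_alternatingGroup.mpr hσ⟩)
    ⟨p, q, r₂, fun h => e13 h hp, fun h => e13 h hq, fun h => e12 h hr₂, hpq,
      fun h => e23 hr₂ (h ▸ hp), fun h => e23 hr₂ (h ▸ hq)⟩ fun r hr => ?_
  · constructor
    · intro h
      have hh := hfix (σ x) (not_not.mpr h)
      rwa [σ.injective hh] at h
    · intro h; rwa [hfix x (not_not.mpr h)]
  · have hr' : r ∈ O₁ := not_not.mp hr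
    have npr : p ≠ r := fun h => e13 hr' (h ▸ hp)
    have nqr : q ≠ r := fun h => e13 hr' (h ▸ hq)
    refine ⟨p, q, fun h => e13 h hp, fun h => e13 h hq, hpq, Subgroup.mem_sup_right
      ⟨mem_stab_set.mpr fun x => ?_, Perm.mem_alternatingGroup.mpr (sign_cyc hpq nqr)⟩⟩
    obtain ⟨c1, c2, c3, c4⟩ := cyc_apply hpq npr nqr
    by_cases hx1 : x = p
    · subst hx1; rw [c1]; exact ⟨fun h => (e23 h hq).elim, fun h => (e23 h hp).elim⟩
    by_cases hx2 : x = q
    · subst hx2; rw [c2]; exact ⟨fun h => (e12 hr' h).elim, fun h => (e23 h hq).elim⟩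
    by_cases hx3 : x = r
    · subst hx3; rw [c3]; exact ⟨fun h => (e23 h hp).elim, fun h => (e12 hr' h).elim⟩
    rw [c4 x hx1 hx2 hx3]

theorem hasPair_pairing (P : Subgroup (Perm α)) (U : Set α) (π : Perm α)
    (hπ : ∀ x, π (π x) = x) (hπne : ∀ x, π x ≠ x) (hπU : ∀ x ∈ U, π x ∈ U)
    (hπP : ∀ g ∈ P, g * π = π * g) (hU4 : 4 ≤ U.ncard) (hUc : ∃ r, r ∉ U)
    (hPU : ∀ g ∈ P, g • U = U ∨ g • U = Uᶜ) : HasPair P := by
  have hπU' : ∀ x, x ∉ U → π x ∉ U := fun x hx h => hx (by simpa [hπ x] using hπU _ h)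
  have key : ∀ a ∈ U, ∃ c d, c ∈ U ∧ d ∈ U ∧ c ≠ d ∧ c ≠ a ∧ c ≠ π a ∧ d ≠ a ∧ d ≠ π a := by
    intro a ha
    have h2 : 1 < (U \ {a, π a}).ncard := by
      have h3 := Set.le_ncard_diff ({a, π a} : Set α) U
      have h4 : ({a, π a} : Set α).ncard ≤ 2 := by
        refine (Set.ncard_insert_le _ _).trans ?_
        rw [Set.ncard_singleton]
      omega
    obtain ⟨c, d, ⟨hc, hc'⟩, ⟨hd, hd'⟩, hcd⟩ := (Set.one_lt_ncard_iff (Set.toFinite _)).mp h2
    simp only [Set.mem_insert_iff, Set.mem_singleton_iff, not_or] at hc' hd'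
    exact ⟨c, d, hc, hd, hcd, hc'.1, hc'.2, hd'.1, hd'.2⟩
  obtain ⟨a, ha⟩ : U.Nonempty := Set.nonempty_of_ncard_ne_zero (by omega)
  obtain ⟨c, d, hc, hd, hcd, hca, hcπ, hda, hdπ⟩ := key a ha
  obtain ⟨r₀, hr₀⟩ := hUc
  refine ⟨stabilizer (Perm α) ({U, Uᶜ} : Set (Set α)), Subgroup.centralizer {π},
    fun g hg => ?_, fun g hg => Subgroup.mem_centralizer_singleton_iff.mpr (hπP g hg),
    fun h => ?_, fun h => ?_, ?_⟩
  · rw [mem_stabilizer_iff, Set.smul_set_insert, Set.smul_set_singleton, Set.smul_set_compl]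
    rcases hPU g hg with e | e <;> rw [e]
    rw [compl_compl, Set.pair_comm]
  · have hac : a ≠ c := hca.symm
    have har : a ≠ r₀ := fun e => hr₀ (e ▸ ha)
    have hcr : c ≠ r₀ := fun e => hr₀ (e ▸ hc)
    obtain ⟨c1, c2, c3, c4⟩ := cyc_apply hac har hcr
    have hs := h (Perm.mem_alternatingGroup.mpr (sign_cyc hac hcr))
    have hU : cyc a c r₀ • U ∈ ({U, Uᶜ} : Set (Set α)) := by
      rw [← (mem_stabilizer_iff.mp hs : cyc a c r₀ • ({U, Uᶜ} : Set (Set α)) = {U, Uᶜ})]
      exact Set.smul_mem_smul_set (Set.mem_insert _ _)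
    have i1 : r₀ ∈ cyc a c r₀ • U := ⟨c, hc, c2⟩
    have i2 : d ∈ cyc a c r₀ • U :=
      ⟨d, hd, c4 d hda hcd.symm (fun e => hr₀ (e ▸ hd))⟩
    rcases Set.mem_insert_iff.mp hU with e | e
    · exact hr₀ (e ▸ i1)
    · exact (Set.mem_singleton_iff.mp e ▸ i2 : d ∈ Uᶜ) hd
  · have h' := Subgroup.mem_centralizer_singleton_iff.mp
      (h (Perm.mem_alternatingGroup.mpr (sign_cyc (hπne a).symm hcπ.symm)))
    obtain ⟨c1, c2, -, -⟩ := cyc_apply (hπne a).symm hca.symm hcπ.symm
    have := congrArg (fun g : Perm α => g a) h'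
    simp only [Perm.mul_apply, c1, c2, hπ a] at this
    exact hca this
  · refine alternating_le _ U (fun σ hσ hfix => Subgroup.mem_sup_left
      ⟨?_, Perm.mem_alternatingGroup.mpr hσ⟩) ⟨a, c, d, ha, hc, hd, hca.symm, hda.symm, hcd⟩
      fun r hr => ?_
    · have hσU : σ • U = U := smul_set_eq_of_iff fun x => by
        by_cases hx : x ∈ U
        · simp only [hx, iff_true]
          by_contra hσx
          exact hσx (by rwa [σ.injective (hfix _ hσx)])
        · rw [hfix x hx]
      show σ ∈ stabilizer (Perm α) ({U, Uᶜ} : Set (Set α))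
      rw [mem_stabilizer_iff, Set.smul_set_insert, Set.smul_set_singleton, Set.smul_set_compl,
        hσU]
    · have har : a ≠ r := fun e => hr (e ▸ ha)
      have hπar : π a ≠ π r := π.injective.ne har
      have haπr : a ≠ π r := fun e => hπU' r hr (e ▸ ha)
      have hrπa : r ≠ π a := fun e => hr (e ▸ hπU a ha)
      set g := swap a r * swap (π a) (π r) with hg
      have gfix : ∀ x ∈ U, x ≠ a → x ≠ π a → g x = x := fun x hx h1 h2 => by
        rw [hg, Perm.mul_apply, swap_apply_of_ne_of_ne h2 (fun e => hπU' r hr (by rw [← e]; exact hx)),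
          swap_apply_of_ne_of_ne h1 (fun e => hr (by rw [← e]; exact hx))]
      have ga : g a = r := by
        rw [hg, Perm.mul_apply, swap_apply_of_ne_of_ne (hπne a).symm haπr, swap_apply_left]
      have hgA : g ∈ alternatingGroup α := by
        rw [Perm.mem_alternatingGroup, hg, Perm.sign_mul, sign_swap har, sign_swap hπar]
        rfl
      have hgB : g ∈ Subgroup.centralizer {π} := by
        rw [Subgroup.mem_centralizer_singleton_iff]
        have e : π * swap a r * π⁻¹ = swap (π a) (π r) := (swap_apply_apply π a r).symm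
        have e' : π * swap (π a) (π r) * π⁻¹ = swap a r := by
          rw [← swap_apply_apply, hπ, hπ]
        have hdisj : swap a r * swap (π a) (π r) = swap (π a) (π r) * swap a r := by
          refine (Perm.Disjoint.commute fun x => ?_).eq
          by_cases h1 : x = a
          · subst h1; exact Or.inr (swap_apply_of_ne_of_ne (hπne _).symm haπr)
          by_cases h2 : x = r
          · subst h2; exact Or.inr (swap_apply_of_ne_of_ne hrπa (hπne _).symm)
          exact Or.inl (swap_apply_of_ne_of_ne h1 h2)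
        have : π * g * π⁻¹ = g := by
          calc π * g * π⁻¹ = (π * swap a r * π⁻¹) * (π * swap (π a) (π r) * π⁻¹) := by
                rw [hg]; group
            _ = g := by rw [e, e', ← hdisj]
        exact (mul_inv_eq_iff_eq_mul.mp this).symm
      have hcy : cyc a c d ∈ (stabilizer (Perm α) ({U, Uᶜ} : Set (Set α)) ⊓ alternatingGroup α) ⊔
          (Subgroup.centralizer {π} ⊓ alternatingGroup α) := by
        refine Subgroup.mem_sup_left ⟨?_, Perm.mem_alternatingGroup.mpr (sign_cyc hca.symm hcd)⟩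
        obtain ⟨c1, c2, c3, c4⟩ := cyc_apply hca.symm hda.symm hcd
        have hσU : cyc a c d • U = U := smul_set_eq_of_iff fun x => by
          by_cases h1 : x = a
          · subst h1; simp [c1, ha, hc]
          by_cases h2 : x = c
          · subst h2; simp [c2, hd, hc]
          by_cases h3 : x = d
          · subst h3; simp [c3, ha, hd]
          rw [c4 x h1 h2 h3]
        show cyc a c d ∈ stabilizer (Perm α) ({U, Uᶜ} : Set (Set α))
        rw [mem_stabilizer_iff, Set.smul_set_insert, Set.smul_set_singleton,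
          Set.smul_set_compl, hσU]
      have hgm := Subgroup.mem_sup_right
        (S := stabilizer (Perm α) ({U, Uᶜ} : Set (Set α)) ⊓ alternatingGroup α)
        (show g ∈ Subgroup.centralizer {π} ⊓ alternatingGroup α from ⟨hgB, hgA⟩)
      have := mul_mem (mul_mem hgm hcy) (inv_mem hgm)
      rw [cyc_conj, ga, gfix c hc hca hcπ, gfix d hd hda hdπ] at this
      refine ⟨c, d, hc, hd, hcd, ?_⟩
      rwa [← cyc_rotate (fun e : r = c => hr (e ▸ hc)) (fun e : r = d => hr (e ▸ hd)) hcd]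

/-- a central element of order two of a transitive 2-group moves every point -/
theorem exists_orbit_involution (P : Subgroup (Perm α)) (hP : IsPGroup 2 P) (x : α)
    (hx : 2 ≤ (orbit P x).ncard) :
    ∃ z : Perm α, (∀ g ∈ P, g * z = z * g) ∧ (∀ y, z (z y) = y) ∧
      (∀ y ∈ orbit P x, z y ∈ orbit P x ∧ z y ≠ y) ∧ ∀ y, y ∉ orbit P x → z y = y := by
  classical
  haveI : Fact (Nat.Prime 2) := ⟨Nat.prime_two⟩
  let O : Set α := orbit P x
  have hmem := mem_orbit_invariant P x
  let ρ : P →* Perm O := MonoidHom.mk'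
    (fun g => (g : Perm α).subtypePerm (fun y => hmem g g.2 y)) fun g h => by ext; rfl
  obtain ⟨y, z, hy, hz, hyz⟩ : ∃ y z, y ∈ O ∧ z ∈ O ∧ y ≠ z :=
    (Set.one_lt_ncard_iff (Set.toFinite _)).mp (show 1 < (orbit P x).ncard by omega)
  have htr : ∀ y z : O, ∃ g : ρ.range, (g : Perm O) y = z := by
    intro y z
    obtain ⟨⟨g, hg⟩, h⟩ := orbit_eq_iff.mp ((orbit_eq_iff.mpr z.2).trans (orbit_eq_iff.mpr y.2).symm)
    exact ⟨⟨ρ ⟨g, hg⟩, ⟨_, rfl⟩⟩, Subtype.ext h⟩
  haveI : Nontrivial ρ.range := by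
    obtain ⟨g, hg⟩ := htr ⟨y, hy⟩ ⟨z, hz⟩
    exact ⟨g, 1, fun h => hyz (by simpa [h] using congrArg Subtype.val hg)⟩
  have hQ : IsPGroup 2 ρ.range :=
    hP.of_surjective ρ.rangeRestrict ρ.rangeRestrict_surjective
  haveI := hQ.center_nontrivial
  obtain ⟨k, hk, hcard⟩ := (hQ.to_subgroup (Subgroup.center ρ.range)).nontrivial_iff_card.mp
    inferInstance
  obtain ⟨w, hw⟩ := exists_prime_orderOf_dvd_card' (G := Subgroup.center ρ.range) 2
    (hcard ▸ dvd_pow_self 2 (by omega))
  let s : Perm O := ((w : ρ.range) : Perm O)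
  have hs2 : s * s = 1 := by
    have h := pow_orderOf_eq_one w
    rw [hw, pow_two] at h
    simpa [s] using congrArg (fun t : Subgroup.center ρ.range => ((t : ρ.range) : Perm O)) h
  have hsc : ∀ g : ρ.range, (g : Perm O) * s = s * g := fun g =>
    congrArg Subtype.val (Subgroup.mem_center_iff.mp w.2 g)
  have hfpf : ∀ y : O, s y ≠ y := by
    intro y hy'
    refine (by rw [hw]; norm_num : orderOf w ≠ 1) (orderOf_eq_one_iff.mpr (Subtype.ext (Subtype.ext (Equiv.ext fun z => ?_))))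
    obtain ⟨g, hg⟩ := htr y z
    show s z = z
    rw [← hg, ← Perm.mul_apply, ← hsc, Perm.mul_apply, hy']
  refine ⟨Perm.ofSubtype s, fun g hg => Equiv.ext fun v => ?_, fun v => ?_,
    fun v hv => ?_, fun v hv => Perm.ofSubtype_apply_of_not_mem s hv⟩
  · by_cases hv : v ∈ O
    · rw [Perm.mul_apply, Perm.mul_apply, Perm.ofSubtype_apply_of_mem s hv,
        Perm.ofSubtype_apply_of_mem s ((hmem g hg v).mpr hv)]
      exact congrArg Subtype.val (congrArg (fun t : Perm O => t ⟨v, hv⟩)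
        (hsc ⟨ρ ⟨g, hg⟩, ⟨_, rfl⟩⟩))
    · rw [Perm.mul_apply, Perm.mul_apply, Perm.ofSubtype_apply_of_not_mem s hv,
        Perm.ofSubtype_apply_of_not_mem s (fun h => hv ((hmem g hg v).mp h))]
  · rw [← Perm.mul_apply, ← map_mul, hs2, map_one, Perm.one_apply]
  · rw [Perm.ofSubtype_apply_of_mem s hv]
    exact ⟨(s ⟨v, hv⟩).2, fun h => hfpf ⟨v, hv⟩ (Subtype.ext h)⟩

theorem hasPair_two_orbits (P : Subgroup (Perm α)) (hP : IsPGroup 2 P) (x y : α)
    (hd : Disjoint (orbit P x) (orbit P y)) (hu : ∀ z, z ∈ orbit P x ∨ z ∈ orbit P y)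
    (hx : 4 ≤ (orbit P x).ncard) (hy : 2 ≤ (orbit P y).ncard) : HasPair P := by
  obtain ⟨s, s1, s2, s3, s4⟩ := exists_orbit_involution P hP x (by omega)
  obtain ⟨t, t1, t2, t3, t4⟩ := exists_orbit_involution P hP y hy
  have hst : ∀ z ∈ orbit P x, (s * t) z = s z := fun z hz => by
    rw [Perm.mul_apply, t4 z (Set.disjoint_left.mp hd hz)]
  have hst' : ∀ z ∈ orbit P y, (s * t) z = t z := fun z hz => by
    rw [Perm.mul_apply, s4 _ (Set.disjoint_right.mp hd (t3 z hz).1)]
  refine hasPair_pairing P (orbit P x) (s * t) (fun z => ?_) (fun z => ?_)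
    (fun z hz => by rw [hst z hz]; exact (s3 z hz).1)
    (fun g hg => by rw [← mul_assoc, s1 g hg, mul_assoc, t1 g hg, ← mul_assoc])
    hx ⟨y, Set.disjoint_right.mp hd (mem_orbit_self y)⟩
    (fun g hg => Or.inl (smul_set_eq_of_iff (mem_orbit_invariant P x g hg)))
  · rcases hu z with hz | hz
    · rw [hst z hz, hst _ (s3 z hz).1, s2]
    · rw [hst' z hz, hst' _ (t3 z hz).1, t2]
  · rcases hu z with hz | hz
    · rw [hst z hz]; exact (s3 z hz).2
    · rw [hst' z hz]; exact (t3 z hz).2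

theorem hasPair_transitive (P : Subgroup (Perm α)) (hP : IsPGroup 2 P) (x : α)
    (htr : ∀ z, z ∈ orbit P x) (hn : 8 ≤ Fintype.card α) : HasPair P := by
  classical
  haveI : Fact (Nat.Prime 2) := ⟨Nat.prime_two⟩
  set S := stabilizer P x with hS
  have hidx : S.index = Fintype.card α := by
    rw [hS, MulAction.index_stabilizer, Set.eq_univ_of_forall htr, Set.ncard_univ,
      Nat.card_eq_fintype_card]
  obtain ⟨M, hM, hSM⟩ : ∃ M, IsCoatom M ∧ S ≤ M :=
    (eq_top_or_exists_le_coatom S).resolve_left fun h => by rw [h, Subgroup.index_top] at hidx; omega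
  haveI : Group.IsNilpotent P := hP.isNilpotent
  haveI hMn : M.Normal :=
    Subgroup.NormalizerCondition.normal_of_coatom M normalizerCondition_of_isNilpotent hM
  have hMne : M ≠ ⊥ := by
    intro h
    have hS' : S = ⊥ := le_bot_iff.mp (h ▸ hSM)
    have hcard : Nat.card P = Fintype.card α := by rw [← hidx, hS', Subgroup.index_bot]
    haveI : Nontrivial P := Finite.one_lt_card_iff_nontrivial.mp (by omega)
    obtain ⟨g, hg⟩ := exists_prime_orderOf_dvd_card' (G := P) 2 (by
      obtain ⟨k, hk, hc⟩ := hP.nontrivial_iff_card.mp inferInstance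
      exact hc ▸ dvd_pow_self 2 (by omega))
    rcases eq_or_lt_of_le (bot_le : ⊥ ≤ Subgroup.zpowers g) with e | e
    · rw [eq_comm, Subgroup.zpowers_eq_bot] at e; simp [e] at hg
    · have h2 := Nat.card_zpowers g
      rw [hM.2 (Subgroup.zpowers g) (by rw [h]; exact e), Subgroup.card_top] at h2
      omega
  have hMidx : M.index = 2 := by
    obtain ⟨k, hk⟩ := hP.index M
    rcases k with _ | k
    · exact absurd (Subgroup.index_eq_one.mp (by simpa using hk)) hM.1
    by_contra hne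
    have hk1 : 1 ≤ k := by
      rcases k with _ | k
      · simp at hk; omega
      · omega
    obtain ⟨q, hq⟩ := exists_prime_orderOf_dvd_card' (G := P ⧸ M) 2
      (by rw [← Subgroup.index_eq_card, hk]; exact dvd_pow_self 2 (by omega))
    let T := (Subgroup.zpowers q).comap (QuotientGroup.mk' M)
    have hMT : M < T := by
      refine lt_of_le_of_ne (fun m hm => ?_) fun h => ?_
      · rw [Subgroup.mem_comap, QuotientGroup.mk'_apply, (QuotientGroup.eq_one_iff m).mpr hm]
        exact one_mem _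
      · obtain ⟨g, rfl⟩ := QuotientGroup.mk'_surjective M q
        have : g ∈ M := h ▸ (Subgroup.mem_zpowers _ : _)
        rw [QuotientGroup.mk'_apply, (QuotientGroup.eq_one_iff g).mpr this, orderOf_one] at hq
        omega
    have hT := hM.2 T hMT
    have h4 : (Subgroup.zpowers q).index = 1 := by
      rw [← Subgroup.index_comap_of_surjective _ (QuotientGroup.mk'_surjective M)]
      exact Subgroup.index_eq_one.mpr hT
    have := (Subgroup.zpowers q).card_mul_index
    rw [h4, Nat.card_zpowers, hq, ← Subgroup.index_eq_card, hk] at this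
    exact hne (by rw [hk]; exact this.symm ▸ rfl)
  obtain ⟨w, hw⟩ : ∃ w : (M ⊓ Subgroup.center P : Subgroup P), orderOf w = 2 := by
    haveI : Nontrivial (M ⊓ Subgroup.center P : Subgroup P) := by
      haveI := (Subgroup.nontrivial_iff_ne_bot _).mpr hMne
      rw [Subgroup.nontrivial_iff_ne_bot]
      exact CfsgLib.PGroups.inf_center_ne_bot hP hMne
    obtain ⟨k, hk, hc⟩ :=
      (hP.to_subgroup (M ⊓ Subgroup.center P : Subgroup P)).nontrivial_iff_card.mp inferInstance
    exact exists_prime_orderOf_dvd_card' 2 (hc ▸ dvd_pow_self 2 (by omega))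
  let π : Perm α := ((w : P) : Perm α)
  have hwc : ∀ g : P, g * (w : P) = (w : P) * g := fun g => Subgroup.mem_center_iff.mp w.2.2 g
  have hπ2 : ∀ z, π (π z) = z := fun z => by
    have h := pow_orderOf_eq_one w
    rw [hw, pow_two] at h
    have h' : π * π = 1 := by
      simpa [π] using congrArg (fun t : (M ⊓ Subgroup.center P : Subgroup P) => ((t : P) : Perm α)) h
    rw [← Perm.mul_apply, h', Perm.one_apply]
  have hπne : ∀ z, π z ≠ z := by
    intro z hz
    refine (by rw [hw]; norm_num : orderOf w ≠ 1)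
      (orderOf_eq_one_iff.mpr (Subtype.ext (Subtype.ext (Equiv.ext fun u => ?_))))
    obtain ⟨g, hg⟩ := orbit_eq_iff.mp ((orbit_eq_iff.mpr (htr u)).trans (orbit_eq_iff.mpr (htr z)).symm)
    show π u = u
    have hg' : (g : Perm α) z = u := hg
    have := congrArg (fun t : P => (t : Perm α) z) (hwc g)
    simp only [Subgroup.coe_mul, Perm.mul_apply] at this
    rw [← hg']
    exact this.symm.trans (congrArg _ hz)
  set U := orbit M x with hUdef
  have hUcard : U.ncard * 2 = Fintype.card α := by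
    rw [← hidx, hUdef, ← MulAction.index_stabilizer, ← hMidx,
      show stabilizer M x = S.subgroupOf M from rfl]
    exact Subgroup.relIndex_mul_index hSM
  have hcomp : U.ncard + Uᶜ.ncard = Fintype.card α := by
    rw [Set.ncard_add_ncard_compl, Nat.card_eq_fintype_card]
  refine hasPair_pairing P U π hπ2 hπne ?_ (fun g hg => congrArg Subtype.val (hwc ⟨g, hg⟩))
    (by omega) ((Set.ne_univ_iff_exists_notMem U).mp fun h => ?_) fun g hg => ?_
  · rintro _ ⟨m, rfl⟩
    exact ⟨⟨(w : P), w.2.1⟩ * m, rfl⟩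
  · rw [h, Set.ncard_univ, Nat.card_eq_fintype_card] at hUcard; omega
  · by_cases hgM : (⟨g, hg⟩ : P) ∈ M
    · left
      refine smul_set_eq_of_iff fun z => ⟨?_, ?_⟩
      · rintro ⟨m, hm⟩
        refine ⟨⟨⟨g, hg⟩, hgM⟩⁻¹ * m, ?_⟩
        show g⁻¹ ((m.1 : Perm α) x) = z
        rw [show (m.1 : Perm α) x = g z from hm, ← Perm.mul_apply, inv_mul_cancel, Perm.one_apply]
      · rintro ⟨m, rfl⟩; exact ⟨⟨⟨g, hg⟩, hgM⟩ * m, rfl⟩
    · right
      refine Set.eq_of_subset_of_ncard_le ?_ ?_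
      · rintro _ ⟨_, ⟨m, rfl⟩, rfl⟩ ⟨m', hm'⟩
        apply hgM
        have hs : (m'.1⁻¹ * (⟨g, hg⟩ * m.1) : P) ∈ S := by
          show ((m'.1 : Perm α))⁻¹ (g ((m.1 : Perm α) x)) = x
          rw [Perm.inv_eq_iff_eq]
          exact hm'.symm
        have := mul_mem (mul_mem m'.2 (hSM hs)) (inv_mem m.2)
        simpa [mul_assoc] using this
      · rw [← Set.image_smul, Set.ncard_image_of_injective _ (MulAction.injective g)]
        omega

/-- the negative case -/
theorem hasPair (P : Sylow 2 (Perm α)) (hn : 5 ≤ Fintype.card α)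
    (hne : ∀ k, 2 ≤ k → Fintype.card α ≠ 2 ^ k + 1) : HasPair (P : Subgroup (Perm α)) := by
  classical
  obtain ⟨x⟩ : Nonempty α := Fintype.card_pos_iff.mp (by omega)
  set P' : Subgroup (Perm α) := ↑P
  have hP : IsPGroup 2 P' := P.isPGroup'
  have hdis : ∀ {a b : α}, b ∉ orbit P' a → Disjoint (orbit P' a) (orbit P' b) := fun {a b} h =>
    Set.disjoint_left.mpr fun z h1 h2 =>
      h (by rw [← orbit_eq_iff.mpr h1, orbit_eq_iff.mpr h2]; exact mem_orbit_self b)
  have hinj : ∀ {a b : α}, b ∉ orbit P' a → (orbit P' a).ncard ≠ (orbit P' b).ncard :=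
    fun {a b} h e => h (by rw [orbit_card_inj P a b e]; exact mem_orbit_self b)
  have hpow := orbit_power P
  by_cases htr : ∀ z, z ∈ orbit P' x
  · refine hasPair_transitive P' hP x htr ?_
    obtain ⟨a, ha⟩ := hpow x
    rw [show orbit P' x = Set.univ from Set.eq_univ_of_forall htr, Set.ncard_univ,
      Nat.card_eq_fintype_card] at ha
    rw [ha] at hn ⊢
    rcases (by omega : a ≤ 2 ∨ 3 ≤ a) with h | h
    · interval_cases a <;> omega
    · exact (show 8 = 2 ^ 3 by norm_num) ▸ Nat.pow_le_pow_right (by norm_num) h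
  push Not at htr
  obtain ⟨y, hy⟩ := htr
  by_cases htwo : ∀ z, z ∈ orbit P' x ∨ z ∈ orbit P' y
  · have hsum : (orbit P' x).ncard + (orbit P' y).ncard = Fintype.card α := by
      rw [← Set.ncard_union_eq (hdis hy), Set.eq_univ_of_forall (s := orbit P' x ∪ orbit P' y) htwo,
        Set.ncard_univ, Nat.card_eq_fintype_card]
    obtain ⟨a, ha⟩ := hpow x
    obtain ⟨b, hb⟩ := hpow y
    have hab : a ≠ b := fun e => hinj hy (by rw [ha, hb, e])
    rw [ha, hb] at hsum
    have hb0 : b ≠ 0 := fun e => by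
      subst e
      rcases (by omega : a ≤ 1 ∨ 2 ≤ a) with h | h
      · interval_cases a <;> omega
      · exact hne a h (by omega)
    have ha0 : a ≠ 0 := fun e => by
      subst e
      rcases (by omega : b ≤ 1 ∨ 2 ≤ b) with h | h
      · interval_cases b <;> omega
      · exact hne b h (by omega)
    have two : ∀ c, c ≠ 0 → 2 ≤ 2 ^ c := fun c hc => Nat.le_self_pow hc 2
    rcases lt_or_gt_of_ne hab with h | h
    · exact hasPair_two_orbits P' hP y x (hdis hy).symm (fun z => (htwo z).symm)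
        (hb ▸ (show 2 ^ 2 ≤ 2 ^ b from Nat.pow_le_pow_right (by norm_num) (by omega)))
        (ha ▸ two a ha0)
    · exact hasPair_two_orbits P' hP x y (hdis hy) htwo
        (ha ▸ (show 2 ^ 2 ≤ 2 ^ a from Nat.pow_le_pow_right (by norm_num) (by omega)))
        (hb ▸ two b hb0)
  push Not at htwo
  obtain ⟨z, hzx, hzy⟩ := htwo
  have inv := fun a => mem_orbit_invariant P' a
  have nt : ∀ a : α, 1 < (orbit P' a).ncard → (orbit P' a).Nontrivial := fun a h =>
    (Set.one_lt_ncard_iff_nontrivial).mp h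
  have pos : ∀ a : α, 0 < (orbit P' a).ncard := fun a =>
    (Set.ncard_pos).mpr ⟨a, mem_orbit_self a⟩
  by_cases h1 : 1 < (orbit P' z).ncard
  · exact hasPair_three P' _ _ _ (inv x) (inv y) (hdis hy) (hdis hzx) (hdis hzy)
      ⟨x, mem_orbit_self x⟩ ⟨y, mem_orbit_self y⟩ (nt z h1)
  · have hx1 : 1 < (orbit P' x).ncard := by
      have := hinj hzx; have := pos x; have := pos z; omega
    exact hasPair_three P' _ _ _ (inv y) (inv z) (hdis hzy) (hdis hy).symm (hdis hzx).symm
      ⟨y, mem_orbit_self y⟩ ⟨z, mem_orbit_self z⟩ (nt x hx1)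

end CfsgLib.LeadSylowTwo
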