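import Cfsg.Agent.Lib.LeadSylowTwo.Gen
import Cfsg.Agent.Lib.LeadSylowTwo.Orbits

/-!
In degree `2^k + 1` the only maximal overgroup of a Sylow 2-subgroup is a point stabiliser.
-/

set_option autoImplicit false
set_option linter.unusedSectionVars false
set_option linter.style.haveILetI false

namespace CfsgLib.LeadSylowTwo

open Equiv Equiv.Perm MulAction
open scoped Pointwise

variable {α : Type*} [Fintype α] [DecidableEq α]

theorem even_transitive_rest (P : Sylow 2 (Perm α)) {k : ℕ} (hk : 2 ≤ k)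
    (hn : Fintype.card α = 2 ^ k + 1) {x : α} (hx : ∀ g ∈ (P : Subgroup (Perm α)), g x = x)
    {y z : α} (hy : y ≠ x) (hz : z ≠ x) :
    ∃ g ∈ (P : Subgroup (Perm α)), sign g = 1 ∧ g y = z := by
  have h4 : 4 ≤ 2 ^ k := (show 4 = 2 ^ 2 by norm_num) ▸ Nat.pow_le_pow_right (by norm_num) hk
  obtain ⟨g, hg, hgy⟩ := transitive_rest P hn hx hy hz
  rcases Int.units_eq_one_or (sign g) with h | h
  · exact ⟨g, hg, h, hgy⟩
  obtain ⟨c, d, hcd, hsw⟩ := exists_swap_mem P (by omega)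
  have hfx := hx _ hsw
  obtain ⟨e, he⟩ : ∃ e, e ∉ ({x, c, d} : Finset α) := by
    by_contra hall
    push Not at hall
    have h1 := Finset.card_le_card (fun e (_ : e ∈ (Finset.univ : Finset α)) => hall e)
    have h3 : ({x, c, d} : Finset α).card ≤ 3 := Finset.card_le_three
    rw [Finset.card_univ] at h1
    omega
  simp only [Finset.mem_insert, Finset.mem_singleton, not_or] at he
  obtain ⟨hex, hec, hed⟩ := he
  obtain ⟨u, hu, hue⟩ := transitive_rest P hn hx hex hy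
  refine ⟨g * (u * swap c d * u⁻¹), mul_mem hg (mul_mem (mul_mem hu hsw) (inv_mem hu)), ?_, ?_⟩
  · simp [h, sign_swap hcd]
  · have huy : u⁻¹ y = e := by rw [Perm.inv_eq_iff_eq, hue]
    simp only [Perm.mul_apply, huy, swap_apply_of_ne_of_ne hec hed, hue, hgy]

theorem isPreprimitive_of_moves (M : Subgroup (Perm α)) {x : α} (R : Set (Perm α))
    (hR : ∀ g ∈ R, g ∈ M) (hRx : ∀ g ∈ R, g x = x)
    (htr : ∀ y z, y ≠ x → z ≠ x → ∃ g ∈ R, g y = z) (hmove : ∃ m ∈ M, m x ≠ x) :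
    IsMultiplyPretransitive M α 2 := by
  obtain ⟨m, hm, hmx⟩ := hmove
  have all : ∀ a, ∃ g ∈ M, g a = x := by
    intro a
    by_cases ha : a = x
    · exact ⟨1, one_mem _, ha⟩
    obtain ⟨g, hg, hga⟩ := htr a (m x) ha hmx
    exact ⟨m⁻¹ * g, mul_mem (inv_mem hm) (hR g hg), by rw [Perm.mul_apply, hga, ← Perm.mul_apply, inv_mul_cancel, Perm.one_apply]⟩
  rw [is_two_pretransitive_iff]
  intro a b c d hab hcd
  obtain ⟨g₁, h₁, e₁⟩ := all a
  obtain ⟨g₂, h₂, e₂⟩ := all c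
  have hb : g₁ b ≠ x := fun e => hab (g₁.injective (e₁.trans e.symm))
  have hd : g₂ d ≠ x := fun e => hcd (g₂.injective (e₂.trans e.symm))
  obtain ⟨r, hr, hrb⟩ := htr _ _ hb hd
  refine ⟨⟨g₂⁻¹ * r * g₁, mul_mem (mul_mem (inv_mem h₂) (hR r hr)) h₁⟩, ?_, ?_⟩
  · show g₂⁻¹ (r (g₁ a)) = c
    rw [e₁, hRx r hr, Perm.inv_eq_iff_eq, e₂]
  · show g₂⁻¹ (r (g₁ b)) = d
    rw [hrb, ← Perm.mul_apply, inv_mul_cancel, Perm.one_apply]

/-- transpositions in a 2-group move disjoint pairs -/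
theorem swap_disjoint (P : Subgroup (Perm α)) (hP : IsPGroup 2 P) {a b c : α} (hab : a ≠ b)
    (hac : a ≠ c) (hbc : b ≠ c) (h1 : swap a b ∈ P) (h2 : swap b c ∈ P) : False := by
  obtain ⟨k, hk⟩ := hP.exists_orderOf_eq_pow ⟨cyc a b c, mul_mem h1 h2⟩
  rw [← Subgroup.orderOf_coe] at hk
  change orderOf (cyc a b c) = 2 ^ k at hk
  rw [(isThreeCycle_cyc hab hac hbc).orderOf] at hk
  rcases k with _ | k
  · simp at hk
  · rw [pow_succ] at hk; omega

/-- a 2-transitive group containing the even part of the Sylow 2-subgroup contains a 3-cycle -/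
theorem exists_three_cycle (P : Sylow 2 (Perm α)) {k : ℕ} (hk : 3 ≤ k)
    (hn : Fintype.card α = 2 ^ k + 1) {x : α} (hx : ∀ g ∈ (P : Subgroup (Perm α)), g x = x)
    (M : Subgroup (Perm α)) (hM : ∀ g ∈ (P : Subgroup (Perm α)), sign g = 1 → g ∈ M)
    (h2 : IsMultiplyPretransitive M α 2) : ∃ g ∈ M, IsThreeCycle g := by
  have h8 : 8 ≤ 2 ^ k := (show 8 = 2 ^ 3 by norm_num) ▸ Nat.pow_le_pow_right (by norm_num) hk
  obtain ⟨c₀, d₀, hcd₀, hsw₀⟩ := exists_swap_mem P (by omega)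
  have hp2 : IsPGroup 2 (P : Subgroup (Perm α)) := P.isPGroup'
  have mate : ∀ a, a ≠ x → ∃ b, b ≠ a ∧ swap a b ∈ (P : Subgroup (Perm α)) := by
    intro a ha
    have hc0 : c₀ ≠ x := fun e => by
      have := hx _ hsw₀
      rw [← e, swap_apply_left] at this
      exact hcd₀ this.symm
    obtain ⟨u, hu, hua⟩ := transitive_rest P hn hx hc0 ha
    refine ⟨u d₀, fun e => hcd₀ (u.injective (hua.trans e.symm)), ?_⟩
    rw [← hua, swap_apply_apply]
    exact mul_mem (mul_mem hu hsw₀) (inv_mem hu)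
  have ne_x : ∀ {a b}, a ≠ x → swap a b ∈ (P : Subgroup (Perm α)) → b ≠ x := by
    intro a b ha h e
    have := hx _ h
    rw [← e, swap_apply_right] at this
    exact ha (this.trans e)
  have uniq : ∀ {a b c}, a ≠ b → a ≠ c → swap a b ∈ (P : Subgroup (Perm α)) →
      swap a c ∈ (P : Subgroup (Perm α)) → b = c := by
    intro a b c hab hac h1 h2
    by_contra hbc
    exact swap_disjoint _ hp2 hab.symm hbc hac (swap_comm a b ▸ h1) h2
  obtain ⟨a, ha⟩ := Fintype.exists_ne_of_one_lt_card (show 1 < Fintype.card α by omega) x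
  obtain ⟨b, hba, hab⟩ := mate a ha
  have hbx := ne_x ha hab
  obtain ⟨⟨m, hm⟩, hma, hmb⟩ := (is_two_pretransitive_iff.mp h2) hba.symm (show a ≠ x from ha)
  change m a = a at hma
  change m b = x at hmb
  have pick : ∀ s : Finset α, s.card < Fintype.card α → ∃ v, v ∉ s := fun s hs => by
    by_contra hall
    push Not at hall
    have := Finset.card_le_card (fun e (_ : e ∈ (Finset.univ : Finset α)) => hall e)
    rw [Finset.card_univ] at this
    omega
  obtain ⟨b', hb'⟩ : ∃ b' : α, m b' = b := ⟨m⁻¹ b, by simp⟩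
  -- a first pair avoiding b after transport
  obtain ⟨u, hu⟩ : ∃ u, u ∉ ({x, a, b, b'} : Finset α) ∧
      ∀ v, v ≠ u → swap u v ∈ (P : Subgroup (Perm α)) → v ≠ b' := by
    by_cases hb'x : b' = x
    · obtain ⟨u, hu⟩ := pick {x, a, b, b'} (lt_of_le_of_lt Finset.card_le_four (by omega))
      simp only [Finset.mem_insert, Finset.mem_singleton, not_or] at hu
      refine ⟨u, by simpa using hu, fun v _ hv => hb'x ▸ ne_x hu.1 hv⟩
    obtain ⟨w, hwb, hw⟩ := mate b' hb'x
    obtain ⟨u, hu⟩ := pick {x, a, b, b', w} (lt_of_le_of_lt Finset.card_le_five (by omega))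
    simp only [Finset.mem_insert, Finset.mem_singleton, not_or] at hu
    refine ⟨u, by simp [hu], fun v hvu hv e => hu.2.2.2.2 ?_⟩
    subst e
    exact uniq hvu hwb.symm (swap_comm u v ▸ hv) hw
  obtain ⟨hu, hmate⟩ := hu
  simp only [Finset.mem_insert, Finset.mem_singleton, not_or] at hu
  obtain ⟨hux, hua, hub, hub'⟩ := hu
  obtain ⟨v, hvu, huv⟩ := mate u hux
  have hvb' := hmate v hvu huv
  have hva : v ≠ a := fun e => hub (uniq (fun h => hua h.symm) hba.symm
    (swap_comm u a ▸ e ▸ huv) hab)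
  have hvb : v ≠ b := fun e => hua (uniq (fun h => hub h.symm) hba
    (swap_comm u b ▸ e ▸ huv) (swap_comm a b ▸ hab))
  have hvx := ne_x hux huv
  set γ := m u with hγ
  set δ := m v with hδ
  have hγb : γ ≠ b := fun e => hub' (m.injective (e.trans hb'.symm))
  have hδb : δ ≠ b := fun e => hvb' (m.injective (e.trans hb'.symm))
  have hγa : γ ≠ a := fun e => hua (m.injective (e.trans hma.symm))
  have hδa : δ ≠ a := fun e => hva (m.injective (e.trans hma.symm))
  have hγx : γ ≠ x := fun e => hub (m.injective (e.trans hmb.symm))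
  have hδx : δ ≠ x := fun e => hvb (m.injective (e.trans hmb.symm))
  have hγδ : γ ≠ δ := m.injective.ne hvu.symm
  -- a second pair avoiding a, b and the transported pair
  obtain ⟨p, hp⟩ : ∃ p, p ∉ ({x, a, b, γ, δ} : Finset α) ∧
      ∀ q, q ≠ p → swap p q ∈ (P : Subgroup (Perm α)) → q ≠ γ ∧ q ≠ δ := by
    obtain ⟨wγ, hwγn, hwγ⟩ := mate γ hγx
    obtain ⟨wδ, hwδn, hwδ⟩ := mate δ hδx
    obtain ⟨p, hp⟩ := pick {x, a, b, γ, δ, wγ, wδ}
      (lt_of_le_of_lt ((Finset.card_insert_le _ _).trans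
        (Nat.add_le_add_right Finset.card_le_six 1)) (by omega))
    simp only [Finset.mem_insert, Finset.mem_singleton, not_or] at hp
    refine ⟨p, by simp [hp], fun q hqp hq => ⟨fun e => hp.2.2.2.2.2.1 ?_, fun e => hp.2.2.2.2.2.2 ?_⟩⟩
    · subst e; exact uniq hqp hwγn.symm (swap_comm p γ ▸ hq) hwγ
    · subst e; exact uniq hqp hwδn.symm (swap_comm p δ ▸ hq) hwδ
  obtain ⟨hp, hmate'⟩ := hp
  simp only [Finset.mem_insert, Finset.mem_singleton, not_or] at hp
  obtain ⟨hpx, hpa, hpb, hpγ, hpδ⟩ := hp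
  obtain ⟨q, hqp, hpq⟩ := mate p hpx
  obtain ⟨hqγ, hqδ⟩ := hmate' q hqp hpq
  have hqa : q ≠ a := fun e => hpb (uniq (fun h => hpa h.symm) hba.symm
    (swap_comm p a ▸ e ▸ hpq) hab)
  have hqb : q ≠ b := fun e => hpa (uniq (fun h => hpb h.symm) hba
    (swap_comm p b ▸ e ▸ hpq) (swap_comm a b ▸ hab))
  have hqx := ne_x hpx hpq
  set s₀ := swap a b * swap p q with hs₀
  have hs₀M : s₀ ∈ M :=
    hM _ (mul_mem hab hpq) (by simp [hs₀, sign_swap hba.symm, sign_swap hqp.symm])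
  set s₁ := m * (swap a b * swap u v) * m⁻¹ with hs₁
  have hs₁M : s₁ ∈ M := mul_mem (mul_mem hm
    (hM _ (mul_mem hab huv) (by simp [sign_swap hba.symm, sign_swap hvu.symm]))) (inv_mem hm)
  have hs₁' : s₁ = swap a x * swap γ δ := by
    rw [hs₁, show m * (swap a b * swap u v) * m⁻¹ =
      (m * swap a b * m⁻¹) * (m * swap u v * m⁻¹) by group, ← swap_apply_apply, ← swap_apply_apply,
      hma, hmb]
  refine ⟨(s₁ * s₀) ^ 2, pow_mem (mul_mem hs₁M hs₀M) 2, ?_⟩
  have hdis : ∀ {p q r s : α}, p ≠ r → p ≠ s → q ≠ r → q ≠ s →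
      Commute (swap p q) (swap r s) := fun {p q r s} h1 h2 h3 h4 =>
    Perm.Disjoint.commute fun t => by
      by_cases ht1 : t = p
      · subst ht1; exact Or.inr (swap_apply_of_ne_of_ne h1 h2)
      by_cases ht2 : t = q
      · subst ht2; exact Or.inr (swap_apply_of_ne_of_ne h3 h4)
      exact Or.inl (swap_apply_of_ne_of_ne ht1 ht2)
  have hA : Commute (swap a x * swap a b) (swap γ δ * swap p q) :=
    ((hdis hγa.symm hδa.symm hγx.symm hδx.symm).mul_left
      (hdis hγa.symm hδa.symm hγb.symm hδb.symm)).mul_right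
    ((hdis (Ne.symm hpa) hqa.symm (Ne.symm hpx) hqx.symm).mul_left
      (hdis (Ne.symm hpa) hqa.symm (Ne.symm hpb) hqb.symm))
  have hB : Commute (swap γ δ) (swap a b) := hdis hγa hγb hδa hδb
  have hC : Commute (swap γ δ) (swap p q) := hdis (Ne.symm hpγ) hqγ.symm (Ne.symm hpδ) hqδ.symm
  have hs : s₁ * s₀ = (swap a x * swap a b) * (swap γ δ * swap p q) := by
    rw [hs₁', hs₀]
    calc swap a x * swap γ δ * (swap a b * swap p q)
        = swap a x * (swap γ δ * swap a b) * swap p q := by simp only [mul_assoc]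
      _ = _ := by rw [hB.eq]; simp only [mul_assoc]
  rw [hs, hA.mul_pow, hC.mul_pow, pow_two (swap γ δ), pow_two (swap p q), swap_mul_self,
    swap_mul_self, one_mul, mul_one, pow_two]
  exact (isThreeCycle_swap_mul_swap_same ha hba.symm hbx.symm).isThreeCycle_sq

end CfsgLib.LeadSylowTwo
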